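import Mathlib.CategoryTheory.Abelian.Refinements
import Mathlib.CategoryTheory.Subobject.Lattice
import Mathlib.CategoryTheory.Subobject.Limits
import Groth.Prelude.Def_SpSeq

/-! # Subquotients by generalised elements -/

set_option autoImplicit false

universe v u

open CategoryTheory CategoryTheory.Limits

namespace GrothLib.SubQuot25

variable {A : Type u} [Category.{v} A] [Abelian A]

theorem factors_of_epi {X T T' : A} (S : Subobject X) (π : T' ⟶ T) [Epi π] (x : T ⟶ X)
    (h : S.Factors (π ≫ x)) : S.Factors x := by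
  let S' := cokernel.π S.arrow
  have h0 : x ≫ S' = 0 := by
    rw [← cancel_epi π, comp_zero, ← Category.assoc, ← S.factorThru_arrow _ h, Category.assoc,
      cokernel.condition, comp_zero]
  exact (Subobject.factors_iff _ _).2
    ⟨@Abelian.monoLift _ _ _ _ _ S.arrow S.arrow_mono _ x h0, @Abelian.monoLift_comp _ _ _ _ _ S.arrow S.arrow_mono _ x h0⟩

theorem factors_mono {X T : A} {S S' : Subobject X} (h : S ≤ S') {x : T ⟶ X} (hx : S.Factors x) :
    S'.Factors x :=
  Subobject.factors_of_le x h hx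

theorem factors_comp_left {X T T' : A} {S : Subobject X} {x : T ⟶ X} (g : T' ⟶ T) (hx : S.Factors x) :
    S.Factors (g ≫ x) := by
  rw [← S.factorThru_arrow x hx, ← Category.assoc]
  exact Subobject.factors_comp_arrow _

theorem factors_neg {X T : A} {S : Subobject X} {x : T ⟶ X} (hx : S.Factors x) : S.Factors (-x) := by
  rw [← S.factorThru_arrow x hx, ← Preadditive.neg_comp]
  exact Subobject.factors_comp_arrow _

theorem factors_sub {X T : A} {S : Subobject X} {x y : T ⟶ X} (hx : S.Factors x) (hy : S.Factors y) :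
    S.Factors (x - y) := by
  rw [sub_eq_add_neg]
  exact Subobject.factors_add _ _ hx (factors_neg hy)

theorem image_factors_iff {X Y T : A} (f : Y ⟶ X) (x : T ⟶ X) :
    (imageSubobject f).Factors x ↔ ∃ (T' : A) (π : T' ⟶ T) (_ : Epi π) (y : T' ⟶ Y), π ≫ x = y ≫ f := by
  constructor
  · intro h
    obtain ⟨T', π, hπ, y, hy⟩ :=
      surjective_up_to_refinements_of_epi (factorThruImageSubobject f) ((imageSubobject f).factorThru x h)
    refine ⟨T', π, hπ, y, ?_⟩
    rw [← (imageSubobject f).factorThru_arrow x h, ← Category.assoc, hy, Category.assoc,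
      imageSubobject_arrow_comp]
  · rintro ⟨T', π, hπ, y, hy⟩
    refine factors_of_epi _ π x ?_
    rw [hy]
    exact imageSubobject_factors_comp_self f y

theorem sup_eq_image {X : A} (S S' : Subobject X) :
    S ⊔ S' = imageSubobject (biprod.desc S.arrow S'.arrow) := by
  refine le_antisymm (sup_le (Subobject.le_of_factors ?_) (Subobject.le_of_factors ?_)) ?_
  · have h := imageSubobject_factors_comp_self (biprod.desc S.arrow S'.arrow) biprod.inl
    simpa only [biprod.inl_desc] using h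
  · have h := imageSubobject_factors_comp_self (biprod.desc S.arrow S'.arrow) biprod.inr
    simpa only [biprod.inr_desc] using h
  · refine imageSubobject_le _ (biprod.desc (S.ofLE _ le_sup_left) (S'.ofLE _ le_sup_right)) ?_
    apply biprod.hom_ext' <;> simp

theorem sup_factors_iff {X T : A} (S S' : Subobject X) (x : T ⟶ X) :
    (S ⊔ S').Factors x ↔ ∃ (T' : A) (π : T' ⟶ T) (_ : Epi π) (a b : T' ⟶ X),
      S.Factors a ∧ S'.Factors b ∧ π ≫ x = a + b := by
  rw [sup_eq_image, image_factors_iff]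
  constructor
  · rintro ⟨T', π, hπ, y, hy⟩
    refine ⟨T', π, hπ, (y ≫ biprod.fst) ≫ S.arrow, (y ≫ biprod.snd) ≫ S'.arrow,
      Subobject.factors_comp_arrow _, Subobject.factors_comp_arrow _, hy.trans ?_⟩
    rw [biprod.desc_eq, Preadditive.comp_add, Category.assoc, Category.assoc]
  · rintro ⟨T', π, hπ, a, b, ha, hb, hy⟩
    exact ⟨T', π, hπ, biprod.lift (S.factorThru a ha) (S'.factorThru b hb),
      by rw [hy, biprod.lift_desc, Subobject.factorThru_arrow, Subobject.factorThru_arrow]⟩

variable {X : A} {Z B : Subobject X} (h : B ≤ Z)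

/-- The projection onto a subquotient. -/
noncomputable def proj : (Z : A) ⟶ SpSeq.subquot Z B h := cokernel.π (B.ofLE Z h)

instance : Epi (proj h) := inferInstanceAs (Epi (cokernel.π (B.ofLE Z h)))

theorem proj_condition : B.ofLE Z h ≫ proj h = 0 := cokernel.condition _

theorem comp_proj_eq_zero_iff {T : A} (x : T ⟶ (Z : A)) : x ≫ proj h = 0 ↔ B.Factors (x ≫ Z.arrow) := by
  constructor
  · intro h0
    refine (Subobject.factors_iff _ _).2 ⟨Abelian.monoLift (B.ofLE Z h) x h0, ?_⟩
    change _ ≫ B.arrow = _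
    refine (congrArg (_ ≫ ·) (Subobject.ofLE_arrow h).symm).trans ((Category.assoc _ _ _).symm.trans ?_)
    exact congrArg (· ≫ Z.arrow) (Abelian.monoLift_comp _ _ _)
  · intro h0
    have : x = B.factorThru _ h0 ≫ B.ofLE Z h := by
      rw [← cancel_mono Z.arrow, Category.assoc, Subobject.ofLE_arrow, Subobject.factorThru_arrow]
    rw [this, Category.assoc, proj_condition, comp_zero]

theorem comp_proj_eq_iff {T : A} (x y : T ⟶ (Z : A)) :
    x ≫ proj h = y ≫ proj h ↔ B.Factors (x ≫ Z.arrow - y ≫ Z.arrow) := by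
  rw [← sub_eq_zero, ← Preadditive.sub_comp, comp_proj_eq_zero_iff, Preadditive.sub_comp]

/-- The class of a generalised element. -/
noncomputable def cls {T : A} (x : T ⟶ X) (hx : Z.Factors x) : T ⟶ SpSeq.subquot Z B h :=
  Z.factorThru x hx ≫ proj h

theorem cls_eq_zero_iff {T : A} (x : T ⟶ X) (hx : Z.Factors x) : cls h x hx = 0 ↔ B.Factors x := by
  rw [cls, comp_proj_eq_zero_iff, Subobject.factorThru_arrow]

theorem comp_cls {T T' : A} (g : T' ⟶ T) (x : T ⟶ X) (hx : Z.Factors x) :
    g ≫ cls h x hx = cls h (g ≫ x) (factors_comp_left g hx) := by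
  rw [cls, cls, ← Category.assoc]
  congr 1
  rw [← cancel_mono Z.arrow, Category.assoc, Subobject.factorThru_arrow, Subobject.factorThru_arrow]

theorem epi_cls {T : A} (x : T ⟶ X) (hx : Z.Factors x)
    (hs : ∀ (T' : A) (z : T' ⟶ X), Z.Factors z → ∃ (T'' : A) (π : T'' ⟶ T') (_ : Epi π) (y : T'' ⟶ T),
      B.Factors (π ≫ z - y ≫ x)) : Epi (cls h x hx) := by
  rw [epi_iff_surjective_up_to_refinements]
  intro T' w
  obtain ⟨T₁, π₁, hπ₁, z, hz⟩ := surjective_up_to_refinements_of_epi (proj h) w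
  obtain ⟨T₂, π₂, hπ₂, y, hy⟩ := hs T₁ (z ≫ Z.arrow) (Subobject.factors_comp_arrow _)
  refine ⟨T₂, π₂ ≫ π₁, epi_comp _ _, y, ?_⟩
  rw [Category.assoc, hz, cls, ← Category.assoc, ← Category.assoc, comp_proj_eq_iff]
  rw [Category.assoc, Category.assoc, Subobject.factorThru_arrow]
  exact hy

/-- Two epimorphisms with the same kernel have isomorphic targets. -/
theorem nonempty_iso_of_epi {W P Q : A} (f : W ⟶ P) (g : W ⟶ Q) [Epi f] [Epi g]
    (hfg : ∀ (T : A) (x : T ⟶ W), x ≫ f = 0 ↔ x ≫ g = 0) : Nonempty (P ≅ Q) := by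
  let u := Abelian.epiDesc f g ((hfg _ _).1 (kernel.condition f))
  let v := Abelian.epiDesc g f ((hfg _ _).2 (kernel.condition g))
  exact ⟨⟨u, v, by rw [← cancel_epi f]; simp [u, v], by rw [← cancel_epi g]; simp [u, v]⟩⟩

section Tower

variable {X : A} {U V W : Subobject X}

/-- `V/U → W/U`. -/
noncomputable def towerF (hUV : U ≤ V) (hVW : V ≤ W) : SpSeq.subquot V U hUV ⟶ SpSeq.subquot W U (hUV.trans hVW) :=
  cokernel.desc (U.ofLE V hUV) (V.ofLE W hVW ≫ proj (hUV.trans hVW))
    (by rw [← Category.assoc, Subobject.ofLE_comp_ofLE, proj_condition])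

/-- `W/U → W/V`. -/
noncomputable def towerG (hUV : U ≤ V) (hVW : V ≤ W) : SpSeq.subquot W U (hUV.trans hVW) ⟶ SpSeq.subquot W V hVW :=
  cokernel.desc (U.ofLE W (hUV.trans hVW)) (proj hVW)
    (by rw [← Subobject.ofLE_comp_ofLE U V W hUV hVW, Category.assoc, proj_condition, comp_zero])

theorem proj_towerF (hUV : U ≤ V) (hVW : V ≤ W) :
    proj hUV ≫ towerF hUV hVW = V.ofLE W hVW ≫ proj (hUV.trans hVW) := cokernel.π_desc _ _ _

theorem proj_towerG (hUV : U ≤ V) (hVW : V ≤ W) :
    proj (hUV.trans hVW) ≫ towerG hUV hVW = proj hVW := cokernel.π_desc _ _ _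

theorem tower_zero (hUV : U ≤ V) (hVW : V ≤ W) : towerF hUV hVW ≫ towerG hUV hVW = 0 := by
  rw [← cancel_epi (proj hUV), ← Category.assoc, proj_towerF, Category.assoc, proj_towerG, proj_condition,
    comp_zero]

instance mono_towerF (hUV : U ≤ V) (hVW : V ≤ W) : Mono (towerF hUV hVW) := by
  refine Preadditive.mono_of_cancel_zero _ fun {T} w hw => ?_
  obtain ⟨T', π, hπ, z, hz⟩ := surjective_up_to_refinements_of_epi (proj hUV) w
  rw [← cancel_epi π, hz, comp_zero, comp_proj_eq_zero_iff]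
  have h1 : z ≫ V.ofLE W hVW ≫ proj (hUV.trans hVW) = 0 := by
    rw [← proj_towerF hUV hVW, ← Category.assoc, ← hz, Category.assoc, hw, comp_zero]
  rw [← Category.assoc, comp_proj_eq_zero_iff, Category.assoc, Subobject.ofLE_arrow] at h1
  exact h1

instance epi_towerG (hUV : U ≤ V) (hVW : V ≤ W) : Epi (towerG hUV hVW) :=
  @epi_of_epi_fac _ _ _ _ _ _ _ _ (inferInstance : Epi (proj hVW)) (proj_towerG hUV hVW)

/-- `0 → V/U → W/U → W/V → 0` is exact. -/
theorem tower_exact (hUV : U ≤ V) (hVW : V ≤ W) :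
    (ShortComplex.mk (towerF hUV hVW) (towerG hUV hVW) (tower_zero hUV hVW)).Exact := by
  rw [ShortComplex.exact_iff_exact_up_to_refinements]
  intro T (w : T ⟶ SpSeq.subquot W U _) (hw : w ≫ towerG hUV hVW = 0)
  obtain ⟨T', π, hπ, z, hz⟩ := surjective_up_to_refinements_of_epi (proj (hUV.trans hVW)) w
  have h1 : z ≫ proj hVW = 0 := by
    rw [← proj_towerG hUV hVW, ← Category.assoc, ← hz, Category.assoc, hw, comp_zero]
  rw [comp_proj_eq_zero_iff] at h1
  refine ⟨T', π, hπ, V.factorThru _ h1 ≫ proj hUV, ?_⟩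
  change π ≫ w = (V.factorThru _ h1 ≫ proj hUV) ≫ towerF hUV hVW
  rw [hz, Category.assoc, proj_towerF, ← Category.assoc]
  congr 1
  rw [← cancel_mono W.arrow, Category.assoc, Subobject.ofLE_arrow, Subobject.factorThru_arrow]

end Tower

end GrothLib.SubQuot25
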